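import Mathlib.Algebra.Category.Grp.Abelian
import Mathlib.Algebra.Category.Grp.EpiMono
import Mathlib.Algebra.Homology.ShortComplex.Ab
import Mathlib.Algebra.Homology.ShortComplex.HomologicalComplex
import Mathlib.Algebra.Homology.HomologicalComplex
import Mathlib.Tactic.Abel

/-! Cohomology of the limit of an inverse sequence of complexes of abelian groups. -/

set_option autoImplicit false

noncomputable section

universe u

open CategoryTheory Limits HomologicalComplex

namespace Groth.Agent.SiteLim98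

theorem family_bijective (n₀ : ℕ) : ∀ (A : ℕ → Type u) (s : ∀ n, A (n + 1) → A n),
    (∀ n, n₀ ≤ n → Function.Bijective (s n)) →
      Function.Bijective (fun x : {x : ∀ n, A n // ∀ n, s n (x (n + 1)) = x n} => x.1 n₀) := by
  induction n₀ with
  | zero =>
    intro A s h
    choose inv hinv using fun n => (h n (Nat.zero_le n)).2
    refine ⟨fun x y e => Subtype.ext (funext fun n => ?_), fun a => ?_⟩
    · induction n with
      | zero => exact e
      | succ n ih => exact (h n (Nat.zero_le n)).1 ((x.2 n).trans (ih.trans (y.2 n).symm))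
    · exact ⟨⟨fun n => Nat.rec a (fun n b => inv n b) n, fun n => hinv n _⟩, rfl⟩
  | succ n₀ ih =>
    intro A s h
    obtain ⟨hinj, hsurj⟩ := ih (fun n => A (n + 1)) (fun n => s (n + 1))
      fun n hn => h (n + 1) (by omega)
    refine ⟨fun x y e => Subtype.ext (funext fun n => ?_), fun a => ?_⟩
    · have := hinj (a₁ := ⟨fun n => x.1 (n + 1), fun n => x.2 (n + 1)⟩)
        (a₂ := ⟨fun n => y.1 (n + 1), fun n => y.2 (n + 1)⟩) e
      have e' : ∀ n, x.1 (n + 1) = y.1 (n + 1) := fun n => congrFun (congrArg Subtype.val this) n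
      rw [← x.2 n, ← y.2 n, e' n]
    · obtain ⟨⟨x, hx⟩, rfl⟩ := hsurj a
      refine ⟨⟨fun n => match n with
        | 0 => s 0 (x 0)
        | n + 1 => x n, fun n => ?_⟩, rfl⟩
      cases n with
      | zero => rfl
      | succ n => exact hx n

variable (K : CochainComplex AddCommGrpCat.{u} ℤ)

/-- The class of a cycle. -/
theorem exists_iCycles_eq {j k : ℤ} (h : j + 1 = k) (x : K.X j) (hx : K.d j k x = 0) :
    ∃ z, K.iCycles j z = x :=
  (ShortComplex.ab_exact_iff _).1 (ShortComplex.exact_of_f_is_kernel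
    (ShortComplex.mk (K.iCycles j) (K.d j k) (K.iCycles_d j k))
    (K.cyclesIsKernel j k (by simp [h]))) x hx

theorem iCycles_d_apply (j k : ℤ) (z : K.cycles j) : K.d j k (K.iCycles j z) = 0 :=
  ConcreteCategory.congr_hom (K.iCycles_d j k) z

theorem iCycles_injective (j : ℤ) : Function.Injective (K.iCycles j) :=
  (AddCommGrpCat.mono_iff_injective _).1 inferInstance

theorem homologyπ_eq_iff {i j : ℤ} (h : i + 1 = j) (z z' : K.cycles j) :
    K.homologyπ j z = K.homologyπ j z' ↔ ∃ w, K.d i j w = K.iCycles j z - K.iCycles j z' := by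
  rw [← sub_eq_zero (a := K.homologyπ j z), ← map_sub, ← map_sub]
  constructor
  · intro hz
    obtain ⟨w, hw⟩ := (ShortComplex.ab_exact_iff _).1 (ShortComplex.exact_of_g_is_cokernel
      (ShortComplex.mk (K.toCycles i j) (K.homologyπ j) (K.toCycles_comp_homologyπ i j))
      (K.homologyIsCokernel i j (by simp [← h]))) _ hz
    exact ⟨w, (ConcreteCategory.congr_hom (K.toCycles_i i j) w).symm.trans (congrArg _ hw)⟩
  · rintro ⟨w, hw⟩
    have : K.toCycles i j w = z - z' :=
      iCycles_injective K j ((ConcreteCategory.congr_hom (K.toCycles_i i j) w).trans hw)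
    rw [← this]
    exact ConcreteCategory.congr_hom (K.toCycles_comp_homologyπ i j) w

theorem homologyπ_surjective (j : ℤ) : Function.Surjective (K.homologyπ j) :=
  (AddCommGrpCat.epi_iff_surjective _).1 inferInstance

variable {K} {L : CochainComplex AddCommGrpCat.{u} ℤ} (f : K ⟶ L)

theorem homologyMap_π (j : ℤ) (z : K.cycles j) :
    homologyMap f j (K.homologyπ j z) = L.homologyπ j (cyclesMap f j z) :=
  ConcreteCategory.congr_hom (homologyπ_naturality f j) z

theorem iCycles_cyclesMap (j : ℤ) (z : K.cycles j) :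
    L.iCycles j (cyclesMap f j z) = f.f j (K.iCycles j z) :=
  ConcreteCategory.congr_hom (cyclesMap_i f j) z

theorem comm_apply (i j : ℤ) (x : K.X i) : L.d i j (f.f i x) = f.f j (K.d i j x) :=
  ConcreteCategory.congr_hom (f.comm i j) x

theorem d_d_apply (i j k : ℤ) (x : K.X i) : K.d j k (K.d i j x) = 0 :=
  ConcreteCategory.congr_hom (K.d_comp_d i j k) x

variable {E : ℕ → CochainComplex AddCommGrpCat.{u} ℤ} {t : ∀ n, E (n + 1) ⟶ E n}
  {T : CochainComplex AddCommGrpCat.{u} ℤ} {π : ∀ n, T ⟶ E n}

theorem homologyMap_bijective (hπ : ∀ n, π (n + 1) ≫ t n = π n)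
    (hlim : ∀ (j : ℤ) (x : ∀ n, (E n).X j), (∀ n, (t n).f j (x (n + 1)) = x n) →
      ∃! y, ∀ n, (π n).f j y = x n)
    (m : ℤ) (n₀ : ℕ)
    (h₁ : Function.Surjective
      (fun (a : ∀ n, (E n).X (m - 1)) (n : ℕ) => a n - (t n).f (m - 1) (a (n + 1))))
    (h₂ : Function.Surjective
      (fun (a : ∀ n, (E n).X (m - 2)) (n : ℕ) => a n - (t n).f (m - 2) (a (n + 1))))
    (hb : Function.Surjective (fun (a : ∀ n, (E n).homology (m - 1)) (n : ℕ) =>
      a n - homologyMap (t n) (m - 1) (a (n + 1))))
    (hc : ∀ n, n₀ ≤ n → Function.Bijective (homologyMap (t n) m)) :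
    Function.Bijective (homologyMap (π n₀) m) := by
  have hfam := family_bijective n₀ (fun n => (E n).homology m) (fun n => homologyMap (t n) m) hc
  have hπ' : ∀ n j (y : T.X j), (t n).f j ((π (n + 1)).f j y) = (π n).f j y := fun n j y =>
    ConcreteCategory.congr_hom (congr_hom (hπ n) j) y
  have hm : m - 1 + 1 = m := by omega
  have hm2 : m - 2 + 1 = m - 1 := by omega
  constructor
  · rw [injective_iff_map_eq_zero]
    intro a ha
    obtain ⟨y, rfl⟩ := homologyπ_surjective T m a
    have hcl : ∀ n, homologyMap (π n) m (T.homologyπ m y) = 0 := by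
      have he := hfam.1 (a₁ := ⟨fun n => homologyMap (π n) m (T.homologyπ m y), fun n => by
          rw [← ConcreteCategory.comp_apply, ← homologyMap_comp, hπ n]⟩)
        (a₂ := ⟨fun n => 0, fun n => map_zero _⟩) ha
      exact fun n => congrFun (congrArg Subtype.val he) n
    have hw : ∀ n, ∃ w, (E n).d (m - 1) m w = (π n).f m (T.iCycles m y) := fun n => by
      have := hcl n
      rw [homologyMap_π, ← map_zero ((E n).homologyπ m).hom] at this
      obtain ⟨w, hw⟩ := (homologyπ_eq_iff _ hm _ _).1 this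
      exact ⟨w, by rw [hw, map_zero, sub_zero, iCycles_cyclesMap]⟩
    choose w hw using hw
    choose e he using fun n => exists_iCycles_eq (E n) hm ((t n).f (m - 1) (w (n + 1)) - w n)
      (by rw [map_sub, comm_apply, hw, hw, hπ', sub_self])
    obtain ⟨h, hh⟩ := hb fun n => (E n).homologyπ (m - 1) (e n)
    choose v hv using fun n => homologyπ_surjective (E n) (m - 1) (h n)
    have hu' : ∀ n, ∃ u', (E n).d (m - 2) (m - 1) u' = (E n).iCycles (m - 1) (e n) -
        (E n).iCycles (m - 1) (v n - cyclesMap (t n) (m - 1) (v (n + 1))) := fun n =>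
      (homologyπ_eq_iff _ hm2 _ _).1 (by
        rw [map_sub, ← homologyMap_π, hv, hv]
        exact (congrFun hh n).symm)
    choose u' hu' using hu'
    obtain ⟨u, hu⟩ := h₂ u'
    obtain ⟨w', hw', -⟩ := hlim (m - 1)
      (fun n => w n + (E n).iCycles (m - 1) (v n) + (E n).d (m - 2) (m - 1) (u n)) fun n => by
        have e2 : u n - (t n).f (m - 2) (u (n + 1)) = u' n := congrFun hu n
        have h3 := hu' n
        rw [← e2, map_sub, map_sub, comm_apply, iCycles_cyclesMap, he] at h3
        rw [map_add, map_add, ← sub_eq_zero]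
        rw [← sub_eq_zero] at h3
        rw [← neg_eq_zero, ← h3]
        abel
    rw [← map_zero (T.homologyπ m).hom]
    refine (homologyπ_eq_iff T hm _ _).2 ⟨w', ?_⟩
    rw [map_zero, sub_zero]
    refine (hlim m (fun n => (π n).f m (T.iCycles m y)) fun n => hπ' n m _).unique (fun n => ?_) fun n => rfl
    rw [← comm_apply, hw', map_add, map_add, hw, iCycles_d_apply, d_d_apply, add_zero, add_zero]
  · intro a
    obtain ⟨⟨c, hcc⟩, hca⟩ := hfam.2 a
    dsimp only at hca
    choose z hz using fun n => homologyπ_surjective (E n) m (c n)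
    have hw : ∀ n, ∃ w, (E n).d (m - 1) m w =
        (t n).f m ((E (n + 1)).iCycles m (z (n + 1))) - (E n).iCycles m (z n) := fun n => by
      obtain ⟨w, hw⟩ := (homologyπ_eq_iff (E n) hm (cyclesMap (t n) m (z (n + 1))) (z n)).1
        (by rw [← homologyMap_π, hz, hz]; exact hcc n)
      exact ⟨w, by rw [hw, iCycles_cyclesMap]⟩
    choose w hw using hw
    obtain ⟨u, hu⟩ := h₁ w
    obtain ⟨y, hy, -⟩ := hlim m (fun n => (E n).iCycles m (z n) + (E n).d (m - 1) m (u n)) fun n => by
      have e2 : u n - (t n).f (m - 1) (u (n + 1)) = w n := congrFun hu n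
      have h3 := hw n
      rw [← e2, map_sub] at h3
      rw [map_add, ← sub_eq_zero]
      rw [← sub_eq_zero] at h3
      rw [← neg_eq_zero, ← h3, comm_apply]
      abel
    have hdy : T.d m (m + 1) y = 0 := by
      refine (hlim (m + 1) (fun n => 0) fun n => map_zero _).unique (fun n => ?_) fun n => map_zero _
      rw [← comm_apply, hy, map_add, iCycles_d_apply, d_d_apply, add_zero]
    obtain ⟨Z, hZ⟩ := exists_iCycles_eq T rfl y hdy
    refine ⟨T.homologyπ m Z, ?_⟩
    rw [homologyMap_π, ← hca, ← hz]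
    exact (homologyπ_eq_iff _ hm _ _).2 ⟨u n₀, by rw [iCycles_cyclesMap, hZ, hy, add_sub_cancel_left]⟩

end Groth.Agent.SiteLim98
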