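import Groth.Prelude.Def_CohCx
import Groth.Agent.SiteLim98.Algebra
import Groth.Agent.SiteBase.DLim.Rlim

/-! Cohomology sheaves of the termwise limit of an inverse sequence of complexes of sheaves. -/

set_option autoImplicit false

noncomputable section

universe u

open CategoryTheory Limits Opposite HomologicalComplex

namespace Groth.Agent.SiteLim98

variable {C : Type u} [SmallCategory C] (J : GrothendieckTopology C)

theorem isIso_presheafToSheaf_map {P Q : Cᵒᵖ ⥤ AddCommGrpCat.{u}} (φ : P ⟶ Q) (B : Set C)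
    (hB : ∀ U : C, ∃ (ι : Type u) (Y : ι → C) (f : ∀ i, Y i ⟶ U), Sieve.ofArrows Y f ∈ J U ∧ ∀ i, Y i ∈ B)
    (hφ : ∀ U ∈ B, Function.Bijective (φ.app (op U))) :
    IsIso ((presheafToSheaf J AddCommGrpCat.{u}).map φ) := by
  have hinj : Presheaf.IsLocallyInjective J φ := ⟨fun {U} x y h => by
    obtain ⟨ι, Y, f, hf, hY⟩ := hB U.unop
    refine J.superset_covering ?_ hf
    rw [Sieve.ofArrows, Sieve.generate_le_iff]
    rintro _ _ ⟨i⟩
    refine (hφ _ (hY i)).1 ?_
    rw [NatTrans.naturality_apply, NatTrans.naturality_apply, h]⟩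
  have hsurj : Presheaf.IsLocallySurjective J φ := ⟨fun {U} s => by
    obtain ⟨ι, Y, f, hf, hY⟩ := hB U
    refine J.superset_covering ?_ hf
    rw [Sieve.ofArrows, Sieve.generate_le_iff]
    rintro _ _ ⟨i⟩
    exact (hφ _ (hY i)).2 _⟩
  exact (GrothendieckTopology.W_iff J _).1 ((J.W_iff_isLocallyBijective _).2 ⟨hinj, hsurj⟩)

theorem isIso_map_homologyMap_iff {A B : Type*} [Category A] [Category B] [Abelian A] [Abelian B]
    (F : A ⥤ B) [F.Additive] [F.PreservesHomology] {ι : Type*} {c : ComplexShape ι}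
    {K L : HomologicalComplex A c} (φ : K ⟶ L) (i : ι) :
    IsIso (F.map (homologyMap φ i)) ↔ IsIso (homologyMap ((F.mapHomologicalComplex c).map φ) i) := by
  have e := ShortComplex.mapHomologyIso_hom_naturality
    ((HomologicalComplex.shortComplexFunctor _ _ i).map φ) F
  let sq : Arrow.mk (homologyMap ((F.mapHomologicalComplex c).map φ) i) ⟶ Arrow.mk (F.map (homologyMap φ i)) :=
    Arrow.homMk ((K.sc i).mapHomologyIso F).hom ((L.sc i).mapHomologyIso F).hom e.symm
  haveI : IsIso sq.left := ((K.sc i).mapHomologyIso F).isIso_hom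
  haveI : IsIso sq.right := ((L.sc i).mapHomologyIso F).isIso_hom
  haveI : IsIso sq := Arrow.isIso_of_isIso_left_of_isIso_right sq
  exact (Arrow.isIso_iff_isIso_of_isIso sq).symm

/-- The presheaf of sections of a complex of sheaves. -/
abbrev pcx : CochainComplex (Sheaf J AddCommGrpCat.{u}) ℤ ⥤ CochainComplex (Cᵒᵖ ⥤ AddCommGrpCat.{u}) ℤ :=
  (sheafToPresheaf J AddCommGrpCat.{u}).mapHomologicalComplex _

/-- Sections in a degree over an object. -/
abbrev sect (j : ℤ) (U : C) : CochainComplex (Sheaf J AddCommGrpCat.{u}) ℤ ⥤ Type u :=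
  HomologicalComplex.eval (Sheaf J AddCommGrpCat.{u}) (ComplexShape.up ℤ) j ⋙
    sheafToPresheaf J AddCommGrpCat.{u} ⋙ (evaluation Cᵒᵖ AddCommGrpCat.{u}).obj (op U) ⋙ forget _

variable {J} (F : ℕ → CochainComplex (Sheaf J AddCommGrpCat.{u}) ℤ) (t : ∀ n, F (n + 1) ⟶ F n)

theorem mem_sections {T : Type*} [Category T] (E : ℕ → T) (s : ∀ n, E (n + 1) ⟶ E n) (K : T ⥤ Type u)
    (x : ∀ n, K.obj (E n)) (hx : ∀ n, K.map (s n) (x (n + 1)) = x n) :
    (fun i : ℕᵒᵖ => x i.unop) ∈ (Functor.ofOpSequence s ⋙ K).sections := by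
  suffices h : ∀ (b i : ℕ) (a : i ⟶ i + b), (Functor.ofOpSequence s ⋙ K).map a.op (x (i + b)) = x i by
    rintro ⟨i⟩ ⟨i'⟩ g
    obtain ⟨b, rfl⟩ := Nat.exists_eq_add_of_le (leOfHom g.unop)
    exact h b i' g.unop
  intro b
  induction b with
  | zero =>
    intro i a
    exact Eq.trans (congrArg (fun g : ((Functor.ofOpSequence s ⋙ K).obj (op (i + 0)) ⟶ (Functor.ofOpSequence s ⋙ K).obj (op i)) =>
      ConcreteCategory.hom g (x (i + 0)))
      (((Functor.ofOpSequence s ⋙ K).congr_map (Subsingleton.elim a.op (𝟙 (op i)))).trans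
        (CategoryTheory.Functor.map_id _ _))) rfl
  | succ b ih =>
    intro i a
    refine Eq.trans (congrArg (fun g : ((Functor.ofOpSequence s ⋙ K).obj (op (i + (b + 1))) ⟶ (Functor.ofOpSequence s ⋙ K).obj (op i)) =>
      ConcreteCategory.hom g (x (i + (b + 1))))
      (((Functor.ofOpSequence s ⋙ K).congr_map (Subsingleton.elim a.op
        ((homOfLE (Nat.le_add_right (i + b) 1)).op ≫ (homOfLE (Nat.le_add_right i b)).op))).trans
        (CategoryTheory.Functor.map_comp _ _ _))) ?_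
    refine Eq.trans ?_ (ih i (homOfLE (Nat.le_add_right i b)))
    refine congrArg (ConcreteCategory.hom ((Functor.ofOpSequence s ⋙ K).map
      (homOfLE (Nat.le_add_right i b)).op)) ?_
    refine Eq.trans ?_ (hx (i + b))
    exact congrArg (fun g => ConcreteCategory.hom (K.map g) (x (i + b + 1)))
      (Functor.ofOpSequence_map_homOfLE_succ s (i + b))

theorem existsUnique_section (U : C) (j : ℤ) (x : ∀ n, (sect J j U).obj (F n))
    (hx : ∀ n, (sect J j U).map (t n) (x (n + 1)) = x n) :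
    ∃! y, ∀ n, (sect J j U).map (limit.π (CohCx.opSequence F t) (op n)) y = x n := by
  obtain ⟨y, hy, huniq⟩ := (Types.isLimit_iff _).1
    ⟨isLimitOfPreserves (sect J j U) (limit.isLimit (CohCx.opSequence F t))⟩ _
    (mem_sections F t (sect J j U) x hx)
  exact ⟨y, fun n => hy (op n), fun z hz => huniq z fun i => hz i.unop⟩

theorem π_comp (n : ℕ) : limit.π (CohCx.opSequence F t) (op (n + 1)) ≫ t n =
    limit.π (CohCx.opSequence F t) (op n) := by
  refine Eq.trans ?_ (limit.w (CohCx.opSequence F t) (homOfLE (Nat.le_add_right n 1)).op)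
  congr 1
  exact (Functor.ofOpSequence_map_homOfLE_succ t n).symm

theorem isIso_step {A : Type*} [Category A] (G : CochainComplex (Sheaf J AddCommGrpCat.{u}) ℤ ⥤ A) (n₀ : ℕ)
    (hc : ∀ k : ℕ, IsIso (G.map (CohCx.transition F t n₀ k))) (n : ℕ) (hn : n₀ ≤ n) :
    IsIso (G.map (t n)) := by
  obtain ⟨k, rfl⟩ := Nat.exists_eq_add_of_le hn
  have h2 : G.map (CohCx.transition F t n₀ (k + 1)) =
      G.map (t (n₀ + k)) ≫ G.map (CohCx.transition F t n₀ k) := by
    rw [← G.map_comp]; rfl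
  haveI := hc k
  haveI : IsIso (G.map (t (n₀ + k)) ≫ G.map (CohCx.transition F t n₀ k)) := h2 ▸ hc (k + 1)
  exact IsIso.of_isIso_comp_right _ (G.map (CohCx.transition F t n₀ k))

theorem sect_bijective (U : C) (m : ℤ) (n₀ : ℕ)
    (ha : ∀ j : ℤ, (j = m - 2 ∨ j = m - 1) →
      CohCx.LimOneIsZero (fun n => ((F n).X j).obj.obj (op U)) (fun n => (((t n).f j).hom.app (op U)).hom))
    (hb : CohCx.LimOneIsZero
      (fun n => ((CohCx.sectCx J U).obj (F n)).homology (m - 1))
      (fun n => (homologyMap ((CohCx.sectCx J U).map (t n)) (m - 1)).hom))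
    (hc : ∀ k : ℕ, IsIso (homologyMap ((CohCx.sectCx J U).map (CohCx.transition F t n₀ k)) m)) :
    IsIso (homologyMap ((CohCx.sectCx J U).map (limit.π (CohCx.opSequence F t) (op n₀))) m) := by
  rw [ConcreteCategory.isIso_iff_bijective]
  have h1 : ∀ n, (CohCx.sectCx J U).map (limit.π (CohCx.opSequence F t) (op (n + 1))) ≫
      (CohCx.sectCx J U).map (t n) = (CohCx.sectCx J U).map (limit.π (CohCx.opSequence F t) (op n)) := fun n => by
    exact ((CohCx.sectCx J U).map_comp _ _).symm.trans ((CohCx.sectCx J U).congr_map (π_comp F t n))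
  refine homologyMap_bijective (E := fun n => (CohCx.sectCx J U).obj (F n))
    (t := fun n => (CohCx.sectCx J U).map (t n))
    (T := (CohCx.sectCx J U).obj (limit (CohCx.opSequence F t)))
    (π := fun n => (CohCx.sectCx J U).map (limit.π (CohCx.opSequence F t) (op n)))
    h1 (fun j => ?_) m n₀ ?_ ?_ ?_ fun n hn => ?_
  · exact fun x hx => existsUnique_section F t U j x hx
  · exact ha _ (Or.inr rfl)
  · exact ha _ (Or.inl rfl)
  · exact hb
  · rw [← ConcreteCategory.isIso_iff_bijective]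
    exact isIso_step F t (CohCx.sectCx J U ⋙ HomologicalComplex.homologyFunctor _ _ m) n₀ hc n hn

theorem isIso_homologyMap_of_sect {K L : CochainComplex (Sheaf J AddCommGrpCat.{u}) ℤ} (φ : K ⟶ L)
    (m : ℤ) (B : Set C)
    (hB : ∀ U : C, ∃ (ι : Type u) (Y : ι → C) (f : ∀ i, Y i ⟶ U), Sieve.ofArrows Y f ∈ J U ∧ ∀ i, Y i ∈ B)
    (h : ∀ U ∈ B, IsIso (homologyMap ((CohCx.sectCx J U).map φ) m)) : IsIso (homologyMap φ m) := by
  have key : ∀ U ∈ B, Function.Bijective ((homologyMap ((pcx J).map φ) m).app (op U)) := fun U hU => by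
    have := (isIso_map_homologyMap_iff ((evaluation Cᵒᵖ AddCommGrpCat.{u}).obj (op U)) ((pcx J).map φ) m).2
      (h U hU)
    exact ConcreteCategory.bijective_of_isIso
      (((evaluation Cᵒᵖ AddCommGrpCat.{u}).obj (op U)).map (homologyMap ((pcx J).map φ) m))
  have h1 := isIso_presheafToSheaf_map J (homologyMap ((pcx J).map φ) m) B hB key
  rw [isIso_map_homologyMap_iff] at h1
  let e : ∀ M : CochainComplex (Sheaf J AddCommGrpCat.{u}) ℤ,
      ((presheafToSheaf J AddCommGrpCat.{u}).mapHomologicalComplex (ComplexShape.up ℤ)).obj ((pcx J).obj M) ≅ M :=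
    fun M => HomologicalComplex.Hom.isoOfComponents
      (fun i => (asIso (sheafificationAdjunction J AddCommGrpCat.{u}).counit).app (M.X i))
      (fun i i' _ => ((sheafificationAdjunction J AddCommGrpCat.{u}).counit.naturality (M.d i i')).symm)
  let ea : Arrow.mk (((presheafToSheaf J AddCommGrpCat.{u}).mapHomologicalComplex (ComplexShape.up ℤ)).map
      ((pcx J).map φ)) ⟶ Arrow.mk φ :=
    Arrow.homMk (e K).hom (e L).hom (HomologicalComplex.hom_ext _ _ fun i =>
      ((sheafificationAdjunction J AddCommGrpCat.{u}).counit.naturality (φ.f i)).symm)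
  haveI : IsIso ea.left := inferInstanceAs (IsIso (e K).hom)
  haveI : IsIso ea.right := inferInstanceAs (IsIso (e L).hom)
  haveI : IsIso ea := Arrow.isIso_of_isIso_left_of_isIso_right ea
  let G := (HomologicalComplex.homologyFunctor (Sheaf J AddCommGrpCat.{u}) (ComplexShape.up ℤ) m).mapArrow
  exact (@Arrow.isIso_iff_isIso_of_isIso _ _ _ _ _ _ _ _ (G.map ea) (G.map_isIso ea)).1 h1

theorem isIso_homologyMap_limit_π (m : ℤ) (B : Set C)
    (hB : ∀ U : C, ∃ (ι : Type u) (Y : ι → C) (f : ∀ i, Y i ⟶ U), Sieve.ofArrows Y f ∈ J U ∧ ∀ i, Y i ∈ B)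
    (n₀ : ℕ)
    (ha : ∀ U ∈ B, ∀ j : ℤ, (j = m - 2 ∨ j = m - 1) →
      CohCx.LimOneIsZero (fun n => ((F n).X j).obj.obj (op U)) (fun n => (((t n).f j).hom.app (op U)).hom))
    (hb : ∀ U ∈ B, CohCx.LimOneIsZero
      (fun n => ((CohCx.sectCx J U).obj (F n)).homology (m - 1))
      (fun n => (homologyMap ((CohCx.sectCx J U).map (t n)) (m - 1)).hom))
    (hc : ∀ U ∈ B, ∀ k : ℕ, IsIso (homologyMap ((CohCx.sectCx J U).map (CohCx.transition F t n₀ k)) m)) :
    IsIso (homologyMap (limit.π (CohCx.opSequence F t) (op n₀)) m) :=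
  isIso_homologyMap_of_sect _ m B hB fun U hU =>
    sect_bijective F t U m n₀ (ha U hU) (hb U hU) (hc U hU)

end Groth.Agent.SiteLim98
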